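import Cfsg.Agent.SB.SporF.McL.Chk0

/-! S5765, row of McL: assembly (generated by notes/SB/spor_tools, helper63) -/

set_option autoImplicit false

namespace Cfsg.Agent.SB.SporF.McL

open Cfsg.Agent.SB Cfsg.Agent.SB.Spor

open Cfsg

set_option maxRecDepth 100000
set_option linter.unusedSectionVars false

variable {G : Type*} [Group G]

theorem tab (M : PM G 275) : M.Tab lk mk ver := perm_tab M rfl (by norm_num) (by norm_num)

/-- the tables `E0` describe elements of `G`, and the order of `G` is bounded -/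
structure Hyp (M : PM G 275) : Prop where
  h0 : AllIn M lk E0
  hN : Nat.card G ≤ 898128000

variable [Finite G] {M : PM G 275} (H : Hyp M)
include H

theorem s0 : AllIn M lk sl0 :=
  slp_spec (tab M) d1 E0 H.h0 c1

theorem i7 : M.In lk t7 :=
  s0 H _ (.head _)

theorem i8 : M.In lk t8 :=
  s0 H _ (.tail _ (.head _))

theorem i9 : M.In lk t9 :=
  s0 H _ (.tail _ (.tail _ (.head _)))

theorem i10 : M.In lk t10 :=
  s0 H _ (.tail _ (.tail _ (.tail _ (.head _))))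

theorem i11 : M.In lk t11 :=
  s0 H _ (.tail _ (.tail _ (.tail _ (.tail _ (.head _)))))

theorem i12 : M.In lk t12 :=
  s0 H _ (.tail _ (.tail _ (.tail _ (.tail _ (.tail _ (.head _))))))

theorem i13 : M.In lk t13 :=
  s0 H _ (.tail _ (.tail _ (.tail _ (.tail _ (.tail _ (.tail _ (.head _)))))))

theorem i14 : M.In lk t14 :=
  s0 H _ (.tail _ (.tail _ (.tail _ (.tail _ (.tail _ (.tail _ (.tail _ (.head _))))))))

theorem i15 : M.In lk t15 :=
  s0 H _ (.tail _ (.tail _ (.tail _ (.tail _ (.tail _ (.tail _ (.tail _ (.tail _ (.head _)))))))))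

theorem i16 : M.In lk t16 :=
  s0 H _ (.tail _ (.tail _ (.tail _ (.tail _ (.tail _ (.tail _ (.tail _ (.tail _ (.tail _ (.head _))))))))))

theorem i17 : M.In lk t17 :=
  s0 H _ (.tail _ (.tail _ (.tail _ (.tail _ (.tail _ (.tail _ (.tail _ (.tail _ (.tail _ (.tail _ (.head _)))))))))))

theorem i18 : M.In lk t18 :=
  s0 H _ (.tail _ (.tail _ (.tail _ (.tail _ (.tail _ (.tail _ (.tail _ (.tail _ (.tail _ (.tail _ (.tail _ (.head _))))))))))))

theorem i19 : M.In lk t19 :=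
  s0 H _ (.tail _ (.tail _ (.tail _ (.tail _ (.tail _ (.tail _ (.tail _ (.tail _ (.tail _ (.tail _ (.tail _ (.tail _ (.head _)))))))))))))

theorem i20 : M.In lk t20 :=
  s0 H _ (.tail _ (.tail _ (.tail _ (.tail _ (.tail _ (.tail _ (.tail _ (.tail _ (.tail _ (.tail _ (.tail _ (.tail _ (.tail _ (.head _))))))))))))))

theorem i21 : M.In lk t21 :=
  s0 H _ (.tail _ (.tail _ (.tail _ (.tail _ (.tail _ (.tail _ (.tail _ (.tail _ (.tail _ (.tail _ (.tail _ (.tail _ (.tail _ (.tail _ (.head _)))))))))))))))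

theorem i22 : M.In lk t22 :=
  s0 H _ (.tail _ (.tail _ (.tail _ (.tail _ (.tail _ (.tail _ (.tail _ (.tail _ (.tail _ (.tail _ (.tail _ (.tail _ (.tail _ (.tail _ (.tail _ (.head _))))))))))))))))

theorem i23 : M.In lk t23 :=
  s0 H _ (.tail _ (.tail _ (.tail _ (.tail _ (.tail _ (.tail _ (.tail _ (.tail _ (.tail _ (.tail _ (.tail _ (.tail _ (.tail _ (.tail _ (.tail _ (.tail _ (.head _)))))))))))))))))

theorem i24 : M.In lk t24 :=
  s0 H _ (.tail _ (.tail _ (.tail _ (.tail _ (.tail _ (.tail _ (.tail _ (.tail _ (.tail _ (.tail _ (.tail _ (.tail _ (.tail _ (.tail _ (.tail _ (.tail _ (.tail _ (.head _))))))))))))))))))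

theorem i25 : M.In lk t25 :=
  s0 H _ (.tail _ (.tail _ (.tail _ (.tail _ (.tail _ (.tail _ (.tail _ (.tail _ (.tail _ (.tail _ (.tail _ (.tail _ (.tail _ (.tail _ (.tail _ (.tail _ (.tail _ (.tail _ (.head _)))))))))))))))))))

theorem i26 : M.In lk t26 :=
  s0 H _ (.tail _ (.tail _ (.tail _ (.tail _ (.tail _ (.tail _ (.tail _ (.tail _ (.tail _ (.tail _ (.tail _ (.tail _ (.tail _ (.tail _ (.tail _ (.tail _ (.tail _ (.tail _ (.tail _ (.head _))))))))))))))))))))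

theorem i27 : M.In lk t27 :=
  s0 H _ (.tail _ (.tail _ (.tail _ (.tail _ (.tail _ (.tail _ (.tail _ (.tail _ (.tail _ (.tail _ (.tail _ (.tail _ (.tail _ (.tail _ (.tail _ (.tail _ (.tail _ (.tail _ (.tail _ (.tail _ (.head _)))))))))))))))))))))

theorem i28 : M.In lk t28 :=
  s0 H _ (.tail _ (.tail _ (.tail _ (.tail _ (.tail _ (.tail _ (.tail _ (.tail _ (.tail _ (.tail _ (.tail _ (.tail _ (.tail _ (.tail _ (.tail _ (.tail _ (.tail _ (.tail _ (.tail _ (.tail _ (.tail _ (.head _))))))))))))))))))))))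

theorem hE : AllIn M lk E :=
  (AllIn.cons (i7 H) (AllIn.cons (i8 H) (AllIn.cons (i9 H) (AllIn.cons (i10 H) (AllIn.cons (i11 H) (AllIn.cons (i12 H) (AllIn.cons (i13 H) (AllIn.cons (i14 H) (AllIn.cons (i15 H) (AllIn.cons (i16 H) (AllIn.cons (i17 H) (AllIn.cons (i18 H) (AllIn.cons (i19 H) (AllIn.cons (i20 H) (AllIn.cons (i21 H) (AllIn.cons (i22 H) (AllIn.cons (i23 H) (AllIn.cons (i24 H) (AllIn.cons (i25 H) (AllIn.cons (i26 H) (AllIn.cons (i27 H) (AllIn.cons (i28 H) AllIn.nil))))))))))))))))))))))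

theorem hB0 : M.Base B ∧ Nat.card G = 898128000 :=
  base_of_chk (hE H) H.hN (B := B) rfl c2

theorem hB : M.Base B :=
  (hB0 H).1

theorem u0 : AllIn M lk ul0 :=
  slp_spec (tab M) d3 E (hE H) c3

theorem i29 : M.In lk t29 :=
  u0 H _ (.head _)

theorem i30 : M.In lk t30 :=
  u0 H _ (.tail _ (.head _))

theorem i31 : M.In lk t31 :=
  u0 H _ (.tail _ (.tail _ (.head _)))

theorem i32 : M.In lk t32 :=
  u0 H _ (.tail _ (.tail _ (.tail _ (.head _))))

theorem i33 : M.In lk t33 :=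
  u0 H _ (.tail _ (.tail _ (.tail _ (.tail _ (.head _)))))

theorem i34 : M.In lk t34 :=
  u0 H _ (.tail _ (.tail _ (.tail _ (.tail _ (.tail _ (.head _))))))

theorem i35 : M.In lk t35 :=
  u0 H _ (.tail _ (.tail _ (.tail _ (.tail _ (.tail _ (.tail _ (.head _)))))))

theorem i36 : M.In lk t36 :=
  u0 H _ (.tail _ (.tail _ (.tail _ (.tail _ (.tail _ (.tail _ (.tail _ (.head _))))))))

theorem i37 : M.In lk t37 :=
  u0 H _ (.tail _ (.tail _ (.tail _ (.tail _ (.tail _ (.tail _ (.tail _ (.tail _ (.head _)))))))))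

theorem i38 : M.In lk t38 :=
  u0 H _ (.tail _ (.tail _ (.tail _ (.tail _ (.tail _ (.tail _ (.tail _ (.tail _ (.tail _ (.head _))))))))))

theorem i39 : M.In lk t39 :=
  u0 H _ (.tail _ (.tail _ (.tail _ (.tail _ (.tail _ (.tail _ (.tail _ (.tail _ (.tail _ (.tail _ (.head _)))))))))))

theorem i40 : M.In lk t40 :=
  u0 H _ (.tail _ (.tail _ (.tail _ (.tail _ (.tail _ (.tail _ (.tail _ (.tail _ (.tail _ (.tail _ (.tail _ (.head _))))))))))))

theorem i41 : M.In lk t41 :=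
  u0 H _ (.tail _ (.tail _ (.tail _ (.tail _ (.tail _ (.tail _ (.tail _ (.tail _ (.tail _ (.tail _ (.tail _ (.tail _ (.head _)))))))))))))

theorem i42 : M.In lk t42 :=
  u0 H _ (.tail _ (.tail _ (.tail _ (.tail _ (.tail _ (.tail _ (.tail _ (.tail _ (.tail _ (.tail _ (.tail _ (.tail _ (.tail _ (.head _))))))))))))))

theorem i43 : M.In lk t43 :=
  u0 H _ (.tail _ (.tail _ (.tail _ (.tail _ (.tail _ (.tail _ (.tail _ (.tail _ (.tail _ (.tail _ (.tail _ (.tail _ (.tail _ (.tail _ (.head _)))))))))))))))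

theorem i44 : M.In lk t44 :=
  u0 H _ (.tail _ (.tail _ (.tail _ (.tail _ (.tail _ (.tail _ (.tail _ (.tail _ (.tail _ (.tail _ (.tail _ (.tail _ (.tail _ (.tail _ (.tail _ (.head _))))))))))))))))

theorem i45 : M.In lk t45 :=
  u0 H _ (.tail _ (.tail _ (.tail _ (.tail _ (.tail _ (.tail _ (.tail _ (.tail _ (.tail _ (.tail _ (.tail _ (.tail _ (.tail _ (.tail _ (.tail _ (.tail _ (.head _)))))))))))))))))

theorem i46 : M.In lk t46 :=
  u0 H _ (.tail _ (.tail _ (.tail _ (.tail _ (.tail _ (.tail _ (.tail _ (.tail _ (.tail _ (.tail _ (.tail _ (.tail _ (.tail _ (.tail _ (.tail _ (.tail _ (.tail _ (.head _))))))))))))))))))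

theorem i47 : M.In lk t47 :=
  u0 H _ (.tail _ (.tail _ (.tail _ (.tail _ (.tail _ (.tail _ (.tail _ (.tail _ (.tail _ (.tail _ (.tail _ (.tail _ (.tail _ (.tail _ (.tail _ (.tail _ (.tail _ (.tail _ (.head _)))))))))))))))))))

theorem i48 : M.In lk t48 :=
  u0 H _ (.tail _ (.tail _ (.tail _ (.tail _ (.tail _ (.tail _ (.tail _ (.tail _ (.tail _ (.tail _ (.tail _ (.tail _ (.tail _ (.tail _ (.tail _ (.tail _ (.tail _ (.tail _ (.tail _ (.head _))))))))))))))))))))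

theorem i49 : M.In lk t49 :=
  u0 H _ (.tail _ (.tail _ (.tail _ (.tail _ (.tail _ (.tail _ (.tail _ (.tail _ (.tail _ (.tail _ (.tail _ (.tail _ (.tail _ (.tail _ (.tail _ (.tail _ (.tail _ (.tail _ (.tail _ (.tail _ (.head _)))))))))))))))))))))

theorem i50 : M.In lk t50 :=
  u0 H _ (.tail _ (.tail _ (.tail _ (.tail _ (.tail _ (.tail _ (.tail _ (.tail _ (.tail _ (.tail _ (.tail _ (.tail _ (.tail _ (.tail _ (.tail _ (.tail _ (.tail _ (.tail _ (.tail _ (.tail _ (.tail _ (.head _))))))))))))))))))))))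

theorem i51 : M.In lk t51 :=
  u0 H _ (.tail _ (.tail _ (.tail _ (.tail _ (.tail _ (.tail _ (.tail _ (.tail _ (.tail _ (.tail _ (.tail _ (.tail _ (.tail _ (.tail _ (.tail _ (.tail _ (.tail _ (.tail _ (.tail _ (.tail _ (.tail _ (.tail _ (.head _)))))))))))))))))))))))

theorem i52 : M.In lk t52 :=
  u0 H _ (.tail _ (.tail _ (.tail _ (.tail _ (.tail _ (.tail _ (.tail _ (.tail _ (.tail _ (.tail _ (.tail _ (.tail _ (.tail _ (.tail _ (.tail _ (.tail _ (.tail _ (.tail _ (.tail _ (.tail _ (.tail _ (.tail _ (.tail _ (.head _))))))))))))))))))))))))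

theorem i53 : M.In lk t53 :=
  u0 H _ (.tail _ (.tail _ (.tail _ (.tail _ (.tail _ (.tail _ (.tail _ (.tail _ (.tail _ (.tail _ (.tail _ (.tail _ (.tail _ (.tail _ (.tail _ (.tail _ (.tail _ (.tail _ (.tail _ (.tail _ (.tail _ (.tail _ (.tail _ (.tail _ (.head _)))))))))))))))))))))))))

theorem i54 : M.In lk t54 :=
  u0 H _ (.tail _ (.tail _ (.tail _ (.tail _ (.tail _ (.tail _ (.tail _ (.tail _ (.tail _ (.tail _ (.tail _ (.tail _ (.tail _ (.tail _ (.tail _ (.tail _ (.tail _ (.tail _ (.tail _ (.tail _ (.tail _ (.tail _ (.tail _ (.tail _ (.tail _ (.head _))))))))))))))))))))))))))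

theorem i55 : M.In lk t55 :=
  u0 H _ (.tail _ (.tail _ (.tail _ (.tail _ (.tail _ (.tail _ (.tail _ (.tail _ (.tail _ (.tail _ (.tail _ (.tail _ (.tail _ (.tail _ (.tail _ (.tail _ (.tail _ (.tail _ (.tail _ (.tail _ (.tail _ (.tail _ (.tail _ (.tail _ (.tail _ (.tail _ (.head _)))))))))))))))))))))))))))

theorem i56 : M.In lk t56 :=
  u0 H _ (.tail _ (.tail _ (.tail _ (.tail _ (.tail _ (.tail _ (.tail _ (.tail _ (.tail _ (.tail _ (.tail _ (.tail _ (.tail _ (.tail _ (.tail _ (.tail _ (.tail _ (.tail _ (.tail _ (.tail _ (.tail _ (.tail _ (.tail _ (.tail _ (.tail _ (.tail _ (.tail _ (.head _))))))))))))))))))))))))))))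

theorem i57 : M.In lk t57 :=
  u0 H _ (.tail _ (.tail _ (.tail _ (.tail _ (.tail _ (.tail _ (.tail _ (.tail _ (.tail _ (.tail _ (.tail _ (.tail _ (.tail _ (.tail _ (.tail _ (.tail _ (.tail _ (.tail _ (.tail _ (.tail _ (.tail _ (.tail _ (.tail _ (.tail _ (.tail _ (.tail _ (.tail _ (.tail _ (.head _)))))))))))))))))))))))))))))

theorem i58 : M.In lk t58 :=
  u0 H _ (.tail _ (.tail _ (.tail _ (.tail _ (.tail _ (.tail _ (.tail _ (.tail _ (.tail _ (.tail _ (.tail _ (.tail _ (.tail _ (.tail _ (.tail _ (.tail _ (.tail _ (.tail _ (.tail _ (.tail _ (.tail _ (.tail _ (.tail _ (.tail _ (.tail _ (.tail _ (.tail _ (.tail _ (.tail _ (.head _))))))))))))))))))))))))))))))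

theorem i59 : M.In lk t59 :=
  u0 H _ (.tail _ (.tail _ (.tail _ (.tail _ (.tail _ (.tail _ (.tail _ (.tail _ (.tail _ (.tail _ (.tail _ (.tail _ (.tail _ (.tail _ (.tail _ (.tail _ (.tail _ (.tail _ (.tail _ (.tail _ (.tail _ (.tail _ (.tail _ (.tail _ (.tail _ (.tail _ (.tail _ (.tail _ (.tail _ (.tail _ (.head _)))))))))))))))))))))))))))))))

theorem i60 : M.In lk t60 :=
  u0 H _ (.tail _ (.tail _ (.tail _ (.tail _ (.tail _ (.tail _ (.tail _ (.tail _ (.tail _ (.tail _ (.tail _ (.tail _ (.tail _ (.tail _ (.tail _ (.tail _ (.tail _ (.tail _ (.tail _ (.tail _ (.tail _ (.tail _ (.tail _ (.tail _ (.tail _ (.tail _ (.tail _ (.tail _ (.tail _ (.tail _ (.tail _ (.head _))))))))))))))))))))))))))))))))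

theorem i61 : M.In lk t61 :=
  u0 H _ (.tail _ (.tail _ (.tail _ (.tail _ (.tail _ (.tail _ (.tail _ (.tail _ (.tail _ (.tail _ (.tail _ (.tail _ (.tail _ (.tail _ (.tail _ (.tail _ (.tail _ (.tail _ (.tail _ (.tail _ (.tail _ (.tail _ (.tail _ (.tail _ (.tail _ (.tail _ (.tail _ (.tail _ (.tail _ (.tail _ (.tail _ (.tail _ (.head _)))))))))))))))))))))))))))))))))

theorem i62 : M.In lk t62 :=
  u0 H _ (.tail _ (.tail _ (.tail _ (.tail _ (.tail _ (.tail _ (.tail _ (.tail _ (.tail _ (.tail _ (.tail _ (.tail _ (.tail _ (.tail _ (.tail _ (.tail _ (.tail _ (.tail _ (.tail _ (.tail _ (.tail _ (.tail _ (.tail _ (.tail _ (.tail _ (.tail _ (.tail _ (.tail _ (.tail _ (.tail _ (.tail _ (.tail _ (.tail _ (.head _))))))))))))))))))))))))))))))))))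

theorem i63 : M.In lk t63 :=
  u0 H _ (.tail _ (.tail _ (.tail _ (.tail _ (.tail _ (.tail _ (.tail _ (.tail _ (.tail _ (.tail _ (.tail _ (.tail _ (.tail _ (.tail _ (.tail _ (.tail _ (.tail _ (.tail _ (.tail _ (.tail _ (.tail _ (.tail _ (.tail _ (.tail _ (.tail _ (.tail _ (.tail _ (.tail _ (.tail _ (.tail _ (.tail _ (.tail _ (.tail _ (.tail _ (.head _)))))))))))))))))))))))))))))))))))

theorem i64 : M.In lk t64 :=
  u0 H _ (.tail _ (.tail _ (.tail _ (.tail _ (.tail _ (.tail _ (.tail _ (.tail _ (.tail _ (.tail _ (.tail _ (.tail _ (.tail _ (.tail _ (.tail _ (.tail _ (.tail _ (.tail _ (.tail _ (.tail _ (.tail _ (.tail _ (.tail _ (.tail _ (.tail _ (.tail _ (.tail _ (.tail _ (.tail _ (.tail _ (.tail _ (.tail _ (.tail _ (.tail _ (.tail _ (.head _))))))))))))))))))))))))))))))))))))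

theorem i65 : M.In lk t65 :=
  u0 H _ (.tail _ (.tail _ (.tail _ (.tail _ (.tail _ (.tail _ (.tail _ (.tail _ (.tail _ (.tail _ (.tail _ (.tail _ (.tail _ (.tail _ (.tail _ (.tail _ (.tail _ (.tail _ (.tail _ (.tail _ (.tail _ (.tail _ (.tail _ (.tail _ (.tail _ (.tail _ (.tail _ (.tail _ (.tail _ (.tail _ (.tail _ (.tail _ (.tail _ (.tail _ (.tail _ (.tail _ (.head _)))))))))))))))))))))))))))))))))))))

theorem i66 : M.In lk t66 :=
  u0 H _ (.tail _ (.tail _ (.tail _ (.tail _ (.tail _ (.tail _ (.tail _ (.tail _ (.tail _ (.tail _ (.tail _ (.tail _ (.tail _ (.tail _ (.tail _ (.tail _ (.tail _ (.tail _ (.tail _ (.tail _ (.tail _ (.tail _ (.tail _ (.tail _ (.tail _ (.tail _ (.tail _ (.tail _ (.tail _ (.tail _ (.tail _ (.tail _ (.tail _ (.tail _ (.tail _ (.tail _ (.tail _ (.head _))))))))))))))))))))))))))))))))))))))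

theorem i67 : M.In lk t67 :=
  u0 H _ (.tail _ (.tail _ (.tail _ (.tail _ (.tail _ (.tail _ (.tail _ (.tail _ (.tail _ (.tail _ (.tail _ (.tail _ (.tail _ (.tail _ (.tail _ (.tail _ (.tail _ (.tail _ (.tail _ (.tail _ (.tail _ (.tail _ (.tail _ (.tail _ (.tail _ (.tail _ (.tail _ (.tail _ (.tail _ (.tail _ (.tail _ (.tail _ (.tail _ (.tail _ (.tail _ (.tail _ (.tail _ (.tail _ (.head _)))))))))))))))))))))))))))))))))))))))

theorem i68 : M.In lk t68 :=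
  u0 H _ (.tail _ (.tail _ (.tail _ (.tail _ (.tail _ (.tail _ (.tail _ (.tail _ (.tail _ (.tail _ (.tail _ (.tail _ (.tail _ (.tail _ (.tail _ (.tail _ (.tail _ (.tail _ (.tail _ (.tail _ (.tail _ (.tail _ (.tail _ (.tail _ (.tail _ (.tail _ (.tail _ (.tail _ (.tail _ (.tail _ (.tail _ (.tail _ (.tail _ (.tail _ (.tail _ (.tail _ (.tail _ (.tail _ (.tail _ (.head _))))))))))))))))))))))))))))))))))))))))

theorem i69 : M.In lk t69 :=
  u0 H _ (.tail _ (.tail _ (.tail _ (.tail _ (.tail _ (.tail _ (.tail _ (.tail _ (.tail _ (.tail _ (.tail _ (.tail _ (.tail _ (.tail _ (.tail _ (.tail _ (.tail _ (.tail _ (.tail _ (.tail _ (.tail _ (.tail _ (.tail _ (.tail _ (.tail _ (.tail _ (.tail _ (.tail _ (.tail _ (.tail _ (.tail _ (.tail _ (.tail _ (.tail _ (.tail _ (.tail _ (.tail _ (.tail _ (.tail _ (.tail _ (.head _)))))))))))))))))))))))))))))))))))))))))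

theorem i70 : M.In lk t70 :=
  u0 H _ (.tail _ (.tail _ (.tail _ (.tail _ (.tail _ (.tail _ (.tail _ (.tail _ (.tail _ (.tail _ (.tail _ (.tail _ (.tail _ (.tail _ (.tail _ (.tail _ (.tail _ (.tail _ (.tail _ (.tail _ (.tail _ (.tail _ (.tail _ (.tail _ (.tail _ (.tail _ (.tail _ (.tail _ (.tail _ (.tail _ (.tail _ (.tail _ (.tail _ (.tail _ (.tail _ (.tail _ (.tail _ (.tail _ (.tail _ (.tail _ (.tail _ (.head _))))))))))))))))))))))))))))))))))))))))))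

theorem i71 : M.In lk t71 :=
  u0 H _ (.tail _ (.tail _ (.tail _ (.tail _ (.tail _ (.tail _ (.tail _ (.tail _ (.tail _ (.tail _ (.tail _ (.tail _ (.tail _ (.tail _ (.tail _ (.tail _ (.tail _ (.tail _ (.tail _ (.tail _ (.tail _ (.tail _ (.tail _ (.tail _ (.tail _ (.tail _ (.tail _ (.tail _ (.tail _ (.tail _ (.tail _ (.tail _ (.tail _ (.tail _ (.tail _ (.tail _ (.tail _ (.tail _ (.tail _ (.tail _ (.tail _ (.tail _ (.head _)))))))))))))))))))))))))))))))))))))))))))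

theorem i72 : M.In lk t72 :=
  u0 H _ (.tail _ (.tail _ (.tail _ (.tail _ (.tail _ (.tail _ (.tail _ (.tail _ (.tail _ (.tail _ (.tail _ (.tail _ (.tail _ (.tail _ (.tail _ (.tail _ (.tail _ (.tail _ (.tail _ (.tail _ (.tail _ (.tail _ (.tail _ (.tail _ (.tail _ (.tail _ (.tail _ (.tail _ (.tail _ (.tail _ (.tail _ (.tail _ (.tail _ (.tail _ (.tail _ (.tail _ (.tail _ (.tail _ (.tail _ (.tail _ (.tail _ (.tail _ (.tail _ (.head _))))))))))))))))))))))))))))))))))))))))))))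

theorem i73 : M.In lk t73 :=
  u0 H _ (.tail _ (.tail _ (.tail _ (.tail _ (.tail _ (.tail _ (.tail _ (.tail _ (.tail _ (.tail _ (.tail _ (.tail _ (.tail _ (.tail _ (.tail _ (.tail _ (.tail _ (.tail _ (.tail _ (.tail _ (.tail _ (.tail _ (.tail _ (.tail _ (.tail _ (.tail _ (.tail _ (.tail _ (.tail _ (.tail _ (.tail _ (.tail _ (.tail _ (.tail _ (.tail _ (.tail _ (.tail _ (.tail _ (.tail _ (.tail _ (.tail _ (.tail _ (.tail _ (.tail _ (.head _)))))))))))))))))))))))))))))))))))))))))))))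

theorem g2p0 : PcG M lk g2_0_7 128 :=
  pcg_of (hB H) (fa_cons (⟨i29 H, i30 H⟩) (fa_cons (⟨i31 H, i32 H⟩) (fa_cons (⟨i33 H, i34 H⟩) (fa_cons (⟨i35 H, i36 H⟩) (fa_cons (⟨i37 H, i38 H⟩) (fa_cons (⟨i39 H, i40 H⟩) (fa_cons (⟨i41 H, i42 H⟩) fa_nil))))))) c4 c5 (E := g2E) rfl c6

theorem g3p0 : PcG M lk g3_0_6 729 :=
  pcg_of (hB H) (fa_cons (⟨i43 H, i44 H⟩) (fa_cons (⟨i45 H, i46 H⟩) (fa_cons (⟨i47 H, i48 H⟩) (fa_cons (⟨i49 H, i50 H⟩) (fa_cons (⟨i51 H, i52 H⟩) (fa_cons (⟨i53 H, i54 H⟩) fa_nil)))))) c7 c8 (E := g3E) rfl c9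

theorem g5p3 : PcG M lk g5_3_6 125 :=
  pcg_of (hB H) (fa_cons (⟨i55 H, i56 H⟩) (fa_cons (⟨i57 H, i58 H⟩) (fa_cons (⟨i59 H, i60 H⟩) fa_nil))) c10 c11 (E := g5E) rfl c12

theorem g7p0 : PcG M lk g7_0_3 42 :=
  pcg_of (hB H) (fa_cons (⟨i61 H, i62 H⟩) (fa_cons (⟨i63 H, i64 H⟩) (fa_cons (⟨i65 H, i66 H⟩) fa_nil))) c13 c14 (E := g7E) rfl c15

theorem dn0 : Dn (M.el lk t67) 3 42 :=
  (g7p0 H).dnS (tab M) (nsC_ok (hB H) _) (i67 H) (Upto.zero) c18

theorem ok0 : Rc.Ok ⟨2, 3, 42, 40320⟩ (M.el lk t67) :=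
  rc_ok (hB H) (i67 H) (by norm_num) c16 (dn0 H) (by norm_num) (norm_ge (hB H) (hE H) (i67 H) c17)

theorem dn1 : Dn (M.el lk t68) 2 125 :=
  (g5p3 H).dnS (tab M) (nsC_ok (hB H) _) (i68 H) (Upto.zero) c21

theorem ok1 : Rc.Ok ⟨3, 2, 125, 1944⟩ (M.el lk t68) :=
  rc_ok (hB H) (i68 H) (by norm_num) c19 (dn1 H) (by norm_num) (norm_ge (hB H) (hE H) (i68 H) c20)

theorem dn2 : Dn (M.el lk t69) 2 42 :=
  (g7p0 H).dnS (tab M) (nsC_ok (hB H) _) (i69 H) (Upto.zero) c24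

theorem ok2 : Rc.Ok ⟨3, 2, 42, 58320⟩ (M.el lk t69) :=
  rc_ok (hB H) (i69 H) (by norm_num) c22 (dn2 H) (by norm_num) (norm_ge (hB H) (hE H) (i69 H) c23)

theorem g3p1 : PcG M lk g3_1_6 243 :=
  (g3p0 H).right (A := g3_0_1) rfl (by decide +kernel)

theorem dn3 : Dn (M.el lk t70) 1 243 :=
  (g3p1 H).dnP (A := g3_1_3) (R := g3_3_6) rfl (tab M) (nsC_ok (hB H) _) (i70 H) (Upto.zero) c27

theorem ok3 : Rc.Ok ⟨5, 1, 243, 100⟩ (M.el lk t70) :=
  rc_ok (hB H) (i70 H) (by norm_num) c25 (dn3 H) (by norm_num) (norm_ge (hB H) (hE H) (i70 H) c26)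

theorem g2p1 : PcG M lk g2_1_7 64 :=
  (g2p0 H).right (A := g2_0_1) rfl (by decide +kernel)

theorem dn4 : Dn (M.el lk t71) 1 64 :=
  (g2p1 H).dnP (A := g2_1_4) (R := g2_4_7) rfl (tab M) (nsC_ok (hB H) _) (i71 H) (Upto.zero) c30

theorem ok4 : Rc.Ok ⟨5, 1, 64, 3000⟩ (M.el lk t71) :=
  rc_ok (hB H) (i71 H) (by norm_num) c28 (dn4 H) (by norm_num) (norm_ge (hB H) (hE H) (i71 H) c29)

theorem dn5 : Dn (M.el lk t72) 1 243 :=
  (g3p1 H).dnP (A := g3_1_3) (R := g3_3_6) rfl (tab M) (nsC_ok (hB H) _) (i72 H) (Upto.zero) c33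

theorem ok5 : Rc.Ok ⟨7, 1, 243, 42⟩ (M.el lk t72) :=
  rc_ok (hB H) (i72 H) (by norm_num) c31 (dn5 H) (by norm_num) (norm_ge (hB H) (hE H) (i72 H) c32)

theorem dn6 : Dn (M.el lk t73) 1 243 :=
  (g3p1 H).dnP (A := g3_1_3) (R := g3_3_6) rfl (tab M) (nsC_ok (hB H) _) (i73 H) (Upto.zero) c36

theorem ok6 : Rc.Ok ⟨11, 1, 243, 55⟩ (M.el lk t73) :=
  rc_ok (hB H) (i73 H) (by norm_num) c34 (dn6 H) (by norm_num) (norm_ge (hB H) (hE H) (i73 H) c35)

theorem cov2 : Cov M lk 2 r2 :=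
  (g2p0 H).cov (hB H) (A := g2_0_0) (R := g2_0_7) (d := 7016625) (a := 1) rfl (by norm_num) (hB0 H).2 (by decide +kernel) (hE H)
    (AllIn.cons (i67 H) AllIn.nil) c37 (cls := cl2) rfl
    (show ∀ c ∈ [0], _ from (fa_cons (⟨_, c38⟩) fa_nil))

theorem cov3 : Cov M lk 3 r3 :=
  (g3p0 H).cov (hB H) (A := g3_0_0) (R := g3_0_6) (d := 1232000) (a := 1) rfl (by norm_num) (hB0 H).2 (by decide +kernel) (hE H)
    (AllIn.cons (i68 H) (AllIn.cons (i69 H) AllIn.nil)) c39 (cls := cl3) rfl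
    (show ∀ c ∈ [0], _ from (fa_cons (⟨_, c40⟩) fa_nil))

theorem cov5 : Cov M lk 5 r5 :=
  (g5p3 H).cov (hB H) (A := g5_3_3) (R := g5_3_6) (d := 7185024) (a := 1) rfl (by norm_num) (hB0 H).2 (by decide +kernel) (hE H)
    (AllIn.cons (i70 H) (AllIn.cons (i71 H) AllIn.nil)) c41 (cls := cl5) rfl
    (show ∀ c ∈ [0], _ from (fa_cons (⟨_, c42⟩) fa_nil))

theorem cov7 : Cov M lk 7 r7 :=
  cov_of_prime (d := 128304000) (by norm_num) (ok5 H).ord ((hB0 H).2.trans (by norm_num)) (by norm_num)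

theorem cov11 : Cov M lk 11 r11 :=
  cov_of_prime (d := 81648000) (by norm_num) (ok6 H).ord ((hB0 H).2.trans (by norm_num)) (by norm_num)

theorem sheet : Sheet G 898128000 [⟨2, 3, 42, 40320⟩, ⟨3, 2, 125, 1944⟩, ⟨3, 2, 42, 58320⟩, ⟨5, 1, 243, 100⟩, ⟨5, 1, 64, 3000⟩, ⟨7, 1, 243, 42⟩, ⟨11, 1, 243, 55⟩] :=
  sheet_of (hB0 H).2 (F := [(2, 7), (3, 6), (5, 3), (7, 1), (11, 1)]) (by norm_num) (reps := [t67, t68, t69, t70, t71, t72, t73])
    (.cons (ok0 H) (.cons (ok1 H) (.cons (ok2 H) (.cons (ok3 H) (.cons (ok4 H) (.cons (ok5 H) (.cons (ok6 H) .nil)))))))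
    (fa_cons (pcov (by norm_num) (cov2 H) (fa_cons ((.head _)) fa_nil)) (fa_cons (pcov (by norm_num) (cov3 H) (fa_cons ((.tail _ (.head _))) (fa_cons ((.tail _ (.tail _ (.head _)))) fa_nil))) (fa_cons (pcov (by norm_num) (cov5 H) (fa_cons ((.tail _ (.tail _ (.tail _ (.head _))))) (fa_cons ((.tail _ (.tail _ (.tail _ (.tail _ (.head _)))))) fa_nil))) (fa_cons (pcov (by norm_num) (cov7 H) (fa_cons ((.tail _ (.tail _ (.tail _ (.tail _ (.tail _ (.head _))))))) fa_nil)) (fa_cons (pcov (by norm_num) (cov11 H) (fa_cons ((.tail _ (.tail _ (.tail _ (.tail _ (.tail _ (.tail _ (.head _)))))))) fa_nil)) fa_nil)))))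

theorem big : ∀ c : G, (orderOf c).Prime → orderOf c ∣ 125 → Dn c 1 49 :=
  big_of (F := [(5, 3)]) (by norm_num)
    (fa_cons (pcov (by norm_num) (cov5 H) (fa_cons ((ok3 H).big (by norm_num) (by norm_num)) (fa_cons ((ok4 H).big (by norm_num) (by norm_num)) fa_nil))) fa_nil)

theorem row [IsSimpleGroup G] (hK : ¬ IsMulCommutative G) (ho : Nat.card (Out G) ≤ 2) : Row G :=
  (sheet H).row_two hK ho (by norm_num) (hB0 H).2 (a := 7185024) (by norm_num) (by norm_num) (big H)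
    (by simp only [List.map, List.sum_cons, List.sum_nil, Rc.term]; norm_num)

end Cfsg.Agent.SB.SporF.McL
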